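import Groth.Prelude.Def_HensSch
import Mathlib.Dynamics.Newton
import Mathlib.RingTheory.Jacobson.Ideal

/-! Algebra of Henselian pairs needed for Henselian schemes. -/

set_option autoImplicit false

universe u

open Polynomial

namespace Groth.Agent.H26Hens

variable {B : Type u} [CommRing B]

lemma henselian_bot : HenselianRing B (⊥ : Ideal B) where
  jac := bot_le
  is_henselian f _ a h _ := ⟨a, (Ideal.mem_bot.1 h), by simp⟩

lemma radical_le_jacobson {I : Ideal B} (h : I ≤ Ideal.jacobson ⊥) : I.radical ≤ Ideal.jacobson ⊥ :=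
  (Ideal.isRadical_jacobson ⊥).radical_le_iff.2 h

lemma isUnit_of_mod {I : Ideal B} (h : I ≤ Ideal.jacobson ⊥) {x : B} (hx : IsUnit (Ideal.Quotient.mk I x)) :
    IsUnit x := by
  obtain ⟨y, hy⟩ := hx.exists_right_inv
  obtain ⟨y, rfl⟩ := Ideal.Quotient.mk_surjective y
  rw [← map_mul, ← map_one (Ideal.Quotient.mk I), Ideal.Quotient.eq] at hy
  have : IsUnit (x * y) := by
    have := (Ideal.mem_jacobson_bot.1 (h hy)) 1
    simpa using this
  exact isUnit_of_mul_isUnit_left this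

/-- Two roots congruent modulo a Jacobson ideal, one of them simple, are equal. -/
lemma root_unique {J : Ideal B} (hJ : J ≤ Ideal.jacobson ⊥) {f : B[X]} {a b : B} (ha : f.IsRoot a) (hb : f.IsRoot b)
    (hab : b - a ∈ J) (hu : IsUnit (f.derivative.eval a)) : a = b := by
  obtain ⟨k, hk⟩ := f.binomExpansion a (b - a)
  rw [add_sub_cancel, hb, ha, zero_add] at hk
  have h2 : (b - a) * (f.derivative.eval a + k * (b - a)) = 0 := by rw [mul_add]; linear_combination -hk
  have hu2 : IsUnit (f.derivative.eval a + k * (b - a)) := by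
    refine isUnit_of_mod hJ ?_
    rw [map_add, Ideal.Quotient.eq_zero_iff_mem.2 (J.mul_mem_left k hab), add_zero]
    exact hu.map _
  exact (sub_eq_zero.1 (hu2.mul_left_eq_zero.1 h2)).symm

/-- A Henselian pair stays Henselian for an ideal inside the radical. -/
lemma henselian_of_le_radical {I J : Ideal B} (hI : HenselianRing B I) (hJ : J ≤ I.radical) :
    HenselianRing B J := by
  have hrad := radical_le_jacobson hI.jac
  refine ⟨hJ.trans hrad, fun f hf a₀ h₁ h₂ => ?_⟩
  have hu₀ : IsUnit (f.derivative.eval a₀) := isUnit_of_mod (hJ.trans hrad) h₂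
  obtain ⟨n, hn⟩ := hJ h₁
  let q := Ideal.Quotient.mk I
  letI := q.toAlgebra
  have e1 : aeval (q a₀) f = q (f.eval a₀) := Polynomial.aeval_algebraMap_apply_eq_algebraMap_eval a₀ f
  have e2 : aeval (q a₀) f.derivative = q (f.derivative.eval a₀) :=
    Polynomial.aeval_algebraMap_apply_eq_algebraMap_eval a₀ f.derivative
  obtain ⟨r, ⟨hr, hr0⟩, -⟩ := Polynomial.existsUnique_nilpotent_sub_and_aeval_eq_zero (P := f) (x := q a₀)
    ⟨n, by rw [e1, ← map_pow]; exact Ideal.Quotient.eq_zero_iff_mem.2 hn⟩ (by rw [e2]; exact hu₀.map q)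
  obtain ⟨a₁, rfl⟩ := Ideal.Quotient.mk_surjective r
  have h3 : f.eval a₁ ∈ I := Ideal.Quotient.eq_zero_iff_mem.1
    ((Polynomial.aeval_algebraMap_apply_eq_algebraMap_eval a₁ f).symm.trans hr0)
  have h4 : a₁ - a₀ ∈ I.radical := by
    obtain ⟨m, hm⟩ := hr
    refine ⟨m, Ideal.Quotient.eq_zero_iff_mem.1 ?_⟩
    rw [map_pow, map_sub, ← neg_sub (q a₀), neg_pow, hm, mul_zero]
  have h5 : IsUnit (f.derivative.eval a₁) := by
    refine isUnit_of_mod hrad ?_
    rw [Ideal.Quotient.eq.2 (show f.derivative.eval a₁ - f.derivative.eval a₀ ∈ I.radical from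
      Ideal.mem_of_dvd _ (f.derivative.sub_dvd_eval_sub a₁ a₀) h4)]
    exact hu₀.map _
  obtain ⟨a, ha, haI⟩ := hI.is_henselian f hf a₁ h3 (h5.map _)
  refine ⟨a, ha, ?_⟩
  have h6 : a₀ - a ∈ I.radical := by
    have := I.radical.add_mem (Ideal.le_radical haI) h4
    rw [sub_add_sub_cancel] at this
    rw [← neg_sub]; exact neg_mem this
  obtain ⟨k, hk⟩ := f.binomExpansion a₀ (a - a₀)
  rw [add_sub_cancel, ha] at hk
  have h7 : IsUnit (f.derivative.eval a₀ + k * (a - a₀)) := by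
    refine isUnit_of_mod hrad ?_
    rw [map_add, Ideal.Quotient.eq_zero_iff_mem.2 (I.radical.mul_mem_left k (by rw [← neg_sub]; exact neg_mem h6)), add_zero]
    exact hu₀.map _
  obtain ⟨v, hv⟩ := h7
  have h8 : a - a₀ = -(f.eval a₀) * ↑v⁻¹ := by
    rw [Units.eq_mul_inv_iff_mul_eq, hv]
    linear_combination -hk
  rw [h8]
  exact J.mul_mem_right _ (neg_mem h₁)

variable {A : Type u} [CommRing A] {I : Ideal A} {f : A} {φ : A →+* B}

/-- Every element of a Henselization agrees modulo the ideal with a fraction. -/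
lemma exists_num (h : HensSch.IsHensAway A I f B φ) (b : B) :
    ∃ (n : ℕ) (a : A), φ f ^ n * b - φ a ∈ I.map φ := by
  let q := Ideal.Quotient.mk (I.map φ)
  let S : Subring (B ⧸ I.map φ) :=
    { carrier := {x | ∃ (n : ℕ) (a : A), q (φ f) ^ n * x = q (φ a)}
      zero_mem' := ⟨0, 0, by simp⟩
      one_mem' := ⟨0, 1, by simp⟩
      add_mem' := by
        rintro x y ⟨n, a, hx⟩ ⟨m, c, hy⟩
        refine ⟨n + m, f ^ m * a + f ^ n * c, ?_⟩
        simp only [map_add, map_mul, map_pow, ← hx, ← hy, pow_add]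
        ring
      mul_mem' := by
        rintro x y ⟨n, a, hx⟩ ⟨m, c, hy⟩
        refine ⟨n + m, a * c, ?_⟩
        simp only [map_mul, ← hx, ← hy, pow_add]
        ring
      neg_mem' := by
        rintro x ⟨n, a, hx⟩
        exact ⟨n, -a, by simp [hx]⟩ }
  let g : A →+* S := (q.comp φ).codRestrict S fun a => ⟨0, a, by simp⟩
  have hgI : I.map g ≤ (⊥ : Ideal S) := Ideal.map_le_iff_le_comap.2 fun i hi =>
    Subtype.ext (Ideal.Quotient.eq_zero_iff_mem.2 (Ideal.mem_map_of_mem φ hi) : q (φ i) = 0)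
  have hgu : IsUnit (g f) := by
    obtain ⟨v, hv⟩ := (h.1.map q).exists_right_inv
    exact IsUnit.of_mul_eq_one ⟨v, 1, 1, by rw [pow_one, hv, map_one, map_one]⟩ (Subtype.ext hv)
  obtain ⟨ψ, hψ, -⟩ := h.2.2 S ⊥ g henselian_bot hgI hgu
  obtain ⟨ψ', -, huniq⟩ := h.2.2 (B ⧸ I.map φ) ⊥ (q.comp φ) henselian_bot
    (Ideal.map_le_iff_le_comap.2 fun i hi => Ideal.Quotient.eq_zero_iff_mem.2 (Ideal.mem_map_of_mem φ hi)) (h.1.map q)
  have e : q = S.subtype.comp ψ :=
    (huniq q rfl).trans (huniq (S.subtype.comp ψ) (by show _ = _; rw [RingHom.comp_assoc, hψ]; rfl)).symm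
  obtain ⟨n, a, hn⟩ := (ψ b).2
  refine ⟨n, a, Ideal.Quotient.eq.1 ?_⟩
  rw [map_mul, map_pow]
  rw [show q b = (ψ b : B ⧸ I.map φ) from RingHom.congr_fun e b]
  exact hn

end Groth.Agent.H26Hens
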