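import Groth.Agent.H26Hens.Flat
import Groth.Agent.H06Mod.StalkPullback
import Groth.Agent.H10Coh.FinType
import Mathlib

/-! Inverse image to the Henselization along enough points is faithful on quasi-coherent modules. -/

set_option autoImplicit false
set_option linter.style.haveILetI false

universe u

open CategoryTheory CategoryTheory.Limits Opposite TopologicalSpace Topology AlgebraicGeometry TensorProduct

namespace Groth.Agent.H26Hens.Faithful

open Groth.Agent.H26Hens.Flatness Groth.Agent.H06Mod

theorem flat_stalkMap_henselization {X : Scheme.{u}} {Y : Set X} {Xh : LocallyRingedSpace.{u}}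
    {ι : Xh ⟶ X.toLocallyRingedSpace} (hh : HensSch.IsHenselizationAlong X Y Xh ι) (x : Xh) :
    (ι.stalkMap x).hom.Flat := by
  obtain ⟨-, -, hr, hloc⟩ := hh
  obtain ⟨A, _, j, _, hxj, V, v, _, π, hv, hcomm, hsph⟩ := hloc (ι.base x) (hr ▸ ⟨x, rfl⟩)
  obtain ⟨y, rfl⟩ : x ∈ Set.range v.base := hv ▸ hxj
  have hπj : (LocallyRingedSpace.Hom.stalkMap (π ≫ j.toLRSHom) y).hom.Flat := by
    refine (congrArg (fun f => f.hom.Flat) (LocallyRingedSpace.stalkMap_comp π j.toLRSHom y)).mpr ?_
    exact RingHom.Flat.comp (RingHom.Flat.of_bijective (ConcreteCategory.bijective_of_isIso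
      (j.toLRSHom.stalkMap (π.base y)))) (flat_stalkMap hsph y)
  have h1 : (LocallyRingedSpace.Hom.stalkMap (v ≫ ι) y).hom.Flat := by
    refine (congrArg (fun f => f.hom.Flat)
      (LocallyRingedSpace.stalkMap_congr_hom (v ≫ ι) (π ≫ j.toLRSHom) hcomm y)).mpr ?_
    exact RingHom.Flat.comp (RingHom.Flat.of_bijective (ConcreteCategory.bijective_of_isIso
      (TopCat.Presheaf.stalkCongr _ (.of_eq (by rw [hcomm]))).hom)) hπj
  replace h1 : ((v.stalkMap y).hom.comp (ι.stalkMap (v.base y)).hom).Flat :=
    (congrArg (fun f => f.hom.Flat) (LocallyRingedSpace.stalkMap_comp v ι y)).mp h1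
  have hv' : Function.Bijective (v.stalkMap y).hom := ConcreteCategory.bijective_of_isIso _
  let e := RingEquiv.ofBijective _ hv'
  have he : (ι.stalkMap (v.base y)).hom =
      e.symm.toRingHom.comp ((v.stalkMap y).hom.comp (ι.stalkMap (v.base y)).hom) := by
    ext a; exact (e.symm_apply_apply _).symm
  rw [he]
  exact h1.comp (RingHom.Flat.of_bijective e.symm.bijective)

section LRS

variable {X : Scheme.{u}} {Z : LocallyRingedSpace.{u}} (x : Z)

/-- Sections of a skyscraper on a locally ringed space. -/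
noncomputable def skyPre (N : Type u) [AddCommGroup N] : (Opens Z)ᵒᵖ ⥤ AddCommGrpCat.{u} where
  obj U := AddCommGrpCat.of (ULift.{u} (PLift (x ∈ U.unop)) → N)
  map {U V} i := AddCommGrpCat.ofHom
    { toFun := fun g h => g ⟨⟨i.unop.le h.down.down⟩⟩
      map_zero' := rfl
      map_add' := fun _ _ => rfl }

variable (N : Type u) [AddCommGroup N] [Module (Z.presheaf.stalk x) N]

noncomputable instance skyModule (U : (Opens Z)ᵒᵖ) :
    Module ((ModSite.ringSh Z.sheaf).obj.obj U) ((skyPre x N).obj U) where
  smul r g := fun h => (Z.presheaf.germ U.unop x h.down.down).hom r • (g h : N)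
  one_smul g := funext fun h =>
    (congrArg (· • (g h : N)) (map_one (Z.presheaf.germ U.unop x h.down.down).hom)).trans (one_smul _ _)
  mul_smul r s g := funext fun h =>
    (congrArg (· • (g h : N))
      (map_mul (Z.presheaf.germ U.unop x h.down.down).hom r s)).trans (mul_smul _ _ _)
  smul_zero r := funext fun h => smul_zero _
  smul_add r g g' := funext fun h => smul_add _ _ _
  add_smul r s g := funext fun h =>
    (congrArg (· • (g h : N))
      (map_add (Z.presheaf.germ U.unop x h.down.down).hom r s)).trans (add_smul _ _ _)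
  zero_smul g := funext fun h =>
    (congrArg (· • (g h : N)) (map_zero (Z.presheaf.germ U.unop x h.down.down).hom)).trans (zero_smul _ _)

/-- The skyscraper module at a point. -/
noncomputable def sky : ModSite.Mod Z.sheaf where
  val := PresheafOfModules.ofPresheaf (R := (ModSite.ringSh Z.sheaf).obj) (skyPre x N) fun U V i r g => by
    funext h
    exact congrArg (· • (g _ : N)) (TopCat.Presheaf.germ_res_apply' Z.presheaf i x h.down.down r).symm
  isSheaf := by
    change TopCat.Presheaf.IsSheaf (skyPre x N : TopCat.Presheaf AddCommGrpCat.{u} Z.toTopCat)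
    rw [TopCat.Presheaf.isSheaf_iff_isSheafUniqueGluing]
    intro ι U sf hsf
    refine ⟨fun h => sf _ ⟨⟨(Opens.mem_iSup.mp h.down.down).choose_spec⟩⟩, fun i => ?_, fun s hs => ?_⟩
    · funext h
      exact congrFun (hsf (Opens.mem_iSup.mp (Opens.mem_iSup.mpr ⟨i, h.down.down⟩)).choose i)
        ⟨⟨(Opens.mem_iSup.mp (Opens.mem_iSup.mpr ⟨i, h.down.down⟩)).choose_spec, h.down.down⟩⟩
    · funext h
      exact congrFun (hs _) ⟨⟨(Opens.mem_iSup.mp h.down.down).choose_spec⟩⟩

end LRS

variable {X : Scheme.{u}} {Z : LocallyRingedSpace.{u}} (ι : Z ⟶ X.toLocallyRingedSpace)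

/-- If the inverse image of a morphism vanishes, so does the morphism on stalks with faithfully flat scalars. -/
theorem germ_eq_zero {F G : X.Modules} (φ : F ⟶ G) (hφ : (HensSch.pullMod ι).map φ = 0) (x : Z)
    (hflat : (ι.stalkMap x).hom.Flat) (U : X.Opens) (hU : ι.base x ∈ U) (a : Γ(F, U)) :
    G.presheaf.germ U (ι.base x) hU (φ.app U a) = 0 := by
  letI : Algebra (X.presheaf.stalk (ι.base x)) (Z.presheaf.stalk x) := (ι.stalkMap x).hom.toAlgebra
  haveI : Module.Flat (X.presheaf.stalk (ι.base x)) (Z.presheaf.stalk x) := hflat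
  haveI : IsLocalHom (algebraMap (X.presheaf.stalk (ι.base x)) (Z.presheaf.stalk x)) :=
    inferInstanceAs (IsLocalHom (ι.stalkMap x).hom)
  haveI := Module.FaithfullyFlat.of_flat_of_isLocalHom (A := X.presheaf.stalk (ι.base x)) (B := Z.presheaf.stalk x)
  let T := Z.presheaf.stalk x ⊗[X.presheaf.stalk (ι.base x)] G.presheaf.stalk (ι.base x)
  let g : G ⟶ (HensSch.pushMod ι).obj (sky x T) :=
    { val := PresheafOfModules.homMk
        { app := fun U => AddCommGrpCat.ofHom
            { toFun := fun m (h : ULift.{u} (PLift (x ∈ (Opens.map ι.base).obj U.unop))) =>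
                ((1 : Z.presheaf.stalk x) ⊗ₜ G.presheaf.germ U.unop (ι.base x) h.down.down m : T)
              map_zero' := funext fun h => by
                show (1 : Z.presheaf.stalk x) ⊗ₜ G.presheaf.germ U.unop (ι.base x) h.down.down 0 = (0 : T)
                rw [map_zero, tmul_zero]
              map_add' := fun a b => funext fun h =>
                (congrArg (fun z => ((1 : Z.presheaf.stalk x) ⊗ₜ z : T))
                  (map_add (G.presheaf.germ U.unop (ι.base x) h.down.down).hom
                    (show Γ(G, U.unop) from a) b)).trans (tmul_add _ _ _) }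
          naturality := fun U V i => by
            ext a
            funext h
            exact congrArg (fun z => ((1 : Z.presheaf.stalk x) ⊗ₜ z : T))
              (G.presheaf.germ_res_apply' i (ι.base x) h.down.down a) }
        fun U r a => funext fun h => by
          show (1 : Z.presheaf.stalk x) ⊗ₜ G.presheaf.germ U.unop (ι.base x) h.down.down
              ((show Γ(X, U.unop) from r) • (show Γ(G, U.unop) from a)) = _
          rw [germ_smul, tmul_smul, ← algebraMap_smul (Z.presheaf.stalk x)]
          show (ι.stalkMap x).hom (X.presheaf.germ U.unop (ι.base x) h.down.down r) • _ = _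
          exact congrArg (· • _) (LocallyRingedSpace.stalkMap_germ_apply ι U.unop x h.down.down r) }
  have h0 : φ ≫ g = 0 := by
    have h1 := (HensSch.pullPushAdj ι).homEquiv_naturality_left φ (((HensSch.pullPushAdj ι).homEquiv G (sky x T)).symm g)
    rw [Equiv.apply_symm_apply, hφ, zero_comp] at h1
    refine h1.symm.trans ?_
    rw [Adjunction.homEquiv_unit, Functor.map_zero, comp_zero]
    rfl
  have h2 := congrFun (congrArg (fun q => (q.val.app (op U)).hom a) h0) (⟨⟨hU⟩⟩ : ULift.{u} (PLift _))
  change ((1 : Z.presheaf.stalk x) ⊗ₜ G.presheaf.germ U (ι.base x) hU (φ.app U a) : T) = 0 at h2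
  exact Module.FaithfullyFlat.tensorProduct_mk_injective (A := X.presheaf.stalk (ι.base x))
    (B := Z.presheaf.stalk x) (G.presheaf.stalk (ι.base x)) (h2.trans (tmul_zero _ _).symm)

theorem eq_zero_of_germ [CompactSpace X] (Y : Set X) (hY : ∀ x : X, IsClosed ({x} : Set X) → x ∈ Y)
    {F G : X.Modules} [F.IsQuasicoherent] (φ : F ⟶ G)
    (h : ∀ y ∈ Y, ∀ (U : X.Opens) (hU : y ∈ U) (a : Γ(F, U)), G.presheaf.germ U y hU (φ.app U a) = 0) :
    φ = 0 := by
  refine Scheme.Modules.hom_ext _ _ fun V => ?_
  ext a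
  show φ.app V a = 0
  refine TopCat.Presheaf.section_ext ⟨G.presheaf, G.isSheaf⟩ V _ _ fun z hz => ?_
  rw [map_zero]
  obtain ⟨y, hy, hyc⟩ := (isClosed_closure (s := ({z} : Set X))).exists_closed_singleton
    ⟨z, subset_closure rfl⟩
  have hzy : z ⤳ y := specializes_iff_mem_closure.mpr hy
  obtain ⟨_, ⟨U, hU, rfl⟩, hyU, -⟩ := X.isBasis_affineOpens.exists_subset_of_mem_open
    (Set.mem_univ y) isOpen_univ
  have hzU : z ∈ U := hzy.mem_open U.2 hyU
  obtain ⟨f, hfV, hzf⟩ := hU.exists_basicOpen_le ⟨z, hz⟩ hzU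
  obtain ⟨n, b, hb⟩ := H10Coh.exists_pow_smul_eq_res F hU f (F.presheaf.map (homOfLE hfV).op a)
  have hb0 := h y (hY y hyc) U hyU b
  rw [← map_zero (G.presheaf.germ U y hyU).hom] at hb0
  obtain ⟨W, hyW, iU, iU', hW⟩ := G.presheaf.germ_eq y hyU hyU _ 0 hb0
  rw [map_zero] at hW
  have hzW : z ∈ W := hzy.mem_open W.2 hyW
  have h1 : G.presheaf.germ U z hzU (φ.app U b) = 0 := by
    rw [← G.presheaf.germ_res_apply iU z hzW (φ.app U b), hW, map_zero]
  have nat : ∀ {P Q : X.Opens} (i : Q ≤ P) (s : Γ(F, P)),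
      φ.app Q (F.presheaf.map (homOfLE i).op s) = G.presheaf.map (homOfLE i).op (φ.app P s) :=
    fun i s => congr($(φ.mapPresheaf.naturality (homOfLE i).op) s)
  have h2 := congrArg (fun s => G.presheaf.germ _ z hzf (φ.app _ s)) hb
  simp only [nat, Scheme.Modules.Hom.app_smul, germ_smul, TopCat.Presheaf.germ_res_apply, h1] at h2
  rw [map_pow] at h2
  exact (((X.mem_basicOpen f z hzU).1 hzf).pow n).smul_eq_zero.1 h2.symm

end Groth.Agent.H26Hens.Faithful
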