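import Groth.Prelude.Def_HensSch
import Groth.Agent.H9Hens.PairHens
import Groth.Agent.S6845
import Mathlib

/-! The affine Henselian spectrum is flat over the spectrum, so inverse image of modules is exact. -/

set_option autoImplicit false
set_option linter.style.haveILetI false

universe u

open CategoryTheory CategoryTheory.Limits Opposite TopologicalSpace Topology AlgebraicGeometry

namespace Groth.Agent.H26Hens.Flatness

/-- The Henselization of a localized pair is flat. -/
theorem flat_of_isHensAway {A : Type u} [CommRing A] {I : Ideal A} {f : A} {B : Type u} [CommRing B]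
    {φ : A →+* B} (h : HensSch.IsHensAway A I f B φ) : φ.Flat := by
  obtain ⟨hu, hH, huniv⟩ := h
  letI := φ.toAlgebra
  let R := Localization.Away f
  let ψ : R →+* B := IsLocalization.Away.lift f hu
  have hψ : ψ.comp (algebraMap A R) = φ := IsLocalization.Away.lift_comp f hu
  letI := ψ.toAlgebra
  haveI : IsScalarTower A R B := IsScalarTower.of_algebraMap_eq fun a => (RingHom.congr_fun hψ a).symm
  have hmap : (I.map (algebraMap A R)).map (algebraMap R B) = I.map φ := by
    rw [Ideal.map_map]; exact congrArg (I.map ·) hψ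
  have hP : Hens2.IsPairHenselization R (I.map (algebraMap A R)) B := by
    refine ⟨by rw [hmap]; exact hH, fun C _ J g hJ hle => ?_⟩
    obtain ⟨k, hk, hku⟩ := huniv C J (g.comp (algebraMap A R)) hJ
      (by rw [← Ideal.map_map]; exact hle) ((IsLocalization.Away.algebraMap_isUnit f).map g)
    refine ⟨k, IsLocalization.ringHom_ext (Submonoid.powers f) ?_, fun k' hk' => hku k' ?_⟩
    · rw [RingHom.comp_assoc]; exact (congrArg k.comp hψ).trans hk
    · show k'.comp φ = _
      rw [← hψ, ← RingHom.comp_assoc]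
      exact congrArg (·.comp (algebraMap A R)) hk'
  obtain ⟨π, hπ⟩ := H9Hens.exists_isPtColim_of_isPairHenselization hP
  haveI : Module.Flat R B := hπ.flat
  exact Module.Flat.trans A R B

variable {A : Type u} [CommRing A] {I : Ideal A} {X : LocallyRingedSpace.{u}} {π : X ⟶ HensSch.specLRS A}

/-- The composite of `A` to the stalk of `X`. -/
noncomputable def toStalk (π : X ⟶ HensSch.specLRS A) (x : X) : A →+* X.presheaf.stalk x :=
  (π.stalkMap x).hom.comp (StructureSheaf.toStalk A (π.base x)).hom

lemma germ_secMap (x : X) (U : Opens (PrimeSpectrum A)) (hx : x ∈ (Opens.map π.base).obj U) (a : A) :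
    X.presheaf.germ _ x hx (HensSch.secMap π U a) = toStalk π x a := by
  show X.presheaf.germ _ x hx ((X.presheaf.map _) ((π.c.app (op ⊤)) _)) = _
  refine (TopCat.Presheaf.germ_res_apply X.presheaf _ x hx _).trans ?_
  refine (LocallyRingedSpace.stalkMap_germ_apply π ⊤ x trivial _).symm.trans ?_
  rfl

theorem flat_toStalk (hX : HensSch.IsSph A I X π) (x : X) : (toStalk π x).Flat := by
  letI := (toStalk π x).toAlgebra
  show Module.Flat A (X.presheaf.stalk x)
  refine Module.Flat.of_forall_isTrivialRelation fun {l} a b hab => ?_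
  -- basic neighbourhoods
  have hbas : ∀ U : Opens X, x ∈ U → ∃ f : A, x ∈ HensSch.dOpen π f ∧ HensSch.dOpen π f ≤ U := by
    intro U hxU
    obtain ⟨W, hW, hWU⟩ := hX.1.isInducing.isOpen_iff.1 U.2
    obtain ⟨_, ⟨f, rfl⟩, hxf, hfW⟩ := PrimeSpectrum.isTopologicalBasis_basic_opens.exists_subset_of_mem_open
      (show π.base x ∈ W by rw [← Set.mem_preimage, hWU]; exact hxU) hW
    exact ⟨f, hxf, fun y hy => hWU.le (hfW hy)⟩
  choose V hV s hs using fun i => X.presheaf.exists_germ_eq (b i)
  obtain ⟨W, hW, hWV⟩ : ∃ W : Opens X, x ∈ W ∧ ∀ i, W ≤ V i :=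
    ⟨Finset.univ.inf V, by simpa [← SetLike.mem_coe, Opens.coe_finset_inf] using hV, fun i => Finset.inf_le (Finset.mem_univ i)⟩
  have key : X.presheaf.germ W x hW (∑ i, ((X.presheaf.map (homOfLE le_top).op)
      ((π.c.app (op ⊤)) ((Scheme.ΓSpecIso (CommRingCat.of A)).inv (a i)))) *
      X.presheaf.map (homOfLE (hWV i)).op (s i)) = X.presheaf.germ W x hW 0 := by
    rw [map_zero, map_sum]
    refine Eq.trans (Finset.sum_congr rfl fun i _ => ?_) hab
    rw [map_mul, Algebra.smul_def, TopCat.Presheaf.germ_res_apply, TopCat.Presheaf.germ_res_apply, hs]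
    exact congrArg (· * b i) (LocallyRingedSpace.stalkMap_germ_apply π ⊤ x trivial _).symm
  obtain ⟨W', hW', iW, iW', heq⟩ := X.presheaf.germ_eq x hW hW _ _ key
  obtain ⟨f, hxf, hf⟩ := hbas W' hW'
  letI := (HensSch.secMap π (PrimeSpectrum.basicOpen f)).toAlgebra
  haveI : Module.Flat A (X.presheaf.obj (op (HensSch.dOpen π f))) := flat_of_isHensAway (hX.2.2 f)
  have hle : ∀ i, HensSch.dOpen π f ≤ V i := fun i => (hf.trans iW.le).trans (hWV i)
  let t : Fin l → X.presheaf.obj (op (HensSch.dOpen π f)) := fun i => X.presheaf.map (homOfLE (hle i)).op (s i)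
  have h0 : ∑ i, a i • t i = 0 := by
    have := congrArg (X.presheaf.map (homOfLE hf).op) heq
    simp only [map_zero, map_sum, map_mul, ← ConcreteCategory.comp_apply, ← Functor.map_comp] at this
    refine Eq.trans (Finset.sum_congr rfl fun i _ => ?_) this
    rw [Algebra.smul_def]
    rfl
  obtain ⟨k, c, y, hy, hc⟩ := Module.Flat.isTrivialRelation_of_sum_smul_eq_zero (R := A) (M := X.presheaf.obj (op (HensSch.dOpen π f))) h0
  refine ⟨k, c, fun j => X.presheaf.germ _ x hxf (y j), fun i => ?_, hc⟩
  rw [← hs i, ← TopCat.Presheaf.germ_res_apply X.presheaf (homOfLE (hle i)) x hxf]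
  show X.presheaf.germ _ x hxf (t i) = _
  rw [hy i, map_sum]
  refine Finset.sum_congr rfl fun j _ => ?_
  rw [Algebra.smul_def, Algebra.smul_def, map_mul]
  exact congrArg (· * _) (germ_secMap x _ hxf (c i j))

theorem flat_stalkMap (hX : HensSch.IsSph A I X π) (x : X) : (π.stalkMap x).hom.Flat := by
  letI : Algebra A ((HensSch.specLRS A).presheaf.stalk (π.base x)) := (StructureSheaf.toStalk A (π.base x)).hom.toAlgebra
  haveI : IsLocalization.AtPrime ((HensSch.specLRS A).presheaf.stalk (π.base x)) (π.base x).asIdeal :=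
    StructureSheaf.IsLocalization.to_stalk A (π.base x)
  letI := (π.stalkMap x).hom.toAlgebra
  letI := (toStalk π x).toAlgebra
  haveI : IsScalarTower A ((HensSch.specLRS A).presheaf.stalk (π.base x)) (X.presheaf.stalk x) :=
    IsScalarTower.of_algebraMap_eq fun _ => rfl
  haveI : Module.Flat A (X.presheaf.stalk x) := flat_toStalk hX x
  show Module.Flat ((HensSch.specLRS A).presheaf.stalk (π.base x)) (X.presheaf.stalk x)
  exact (Module.flat_iff_of_isLocalization ((HensSch.specLRS A).presheaf.stalk (π.base x)) (π.base x).asIdeal.primeCompl (X.presheaf.stalk x)).2 inferInstance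

/-- Inverse image of modules along a morphism with flat stalk maps is exact. -/
theorem preservesFiniteLimits_pullMod {X Y : LocallyRingedSpace.{u}} (g : X ⟶ Y)
    (h : ∀ x, (g.stalkMap x).hom.Flat) : PreservesFiniteLimits (HensSch.pullMod g) :=
  Groth.Agent.S6845.result g.base X.sheaf Y.sheaf ⟨g.c⟩ h

end Groth.Agent.H26Hens.Flatness
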