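import Groth.Agent.H26Hens.Space

/-! Gluing morphisms of locally ringed spaces along a cover by open immersions. -/

set_option autoImplicit false

universe u

open CategoryTheory Opposite TopologicalSpace Topology AlgebraicGeometry

namespace Groth.Agent.H26Hens

variable {X Y Z T : LocallyRingedSpace.{u}}

lemma appLE_appLE (f : X ⟶ Y) (g : Y ⟶ T) (W : Opens T) (E : Opens Y) (D : Opens X)
    (hg : ∀ y ∈ E, g.base y ∈ W) (hf : ∀ x ∈ D, f.base x ∈ E) :
    appLE g W E hg ≫ appLE f E D hf = appLE (f ≫ g) W D fun x hx => hg _ (hf x hx) := by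
  simp only [appLE, Category.assoc]
  erw [f.c.naturality_assoc]
  show g.c.app _ ≫ f.c.app _ ≫ X.presheaf.map _ ≫ X.presheaf.map _ = _
  rw [← Functor.map_comp]
  rfl

lemma res_appLE (f : X ⟶ Y) (W W' : Opens Y) (hW : W' ≤ W) (D : Opens X) (h : ∀ x ∈ D, f.base x ∈ W') :
    Y.presheaf.map (homOfLE hW).op ≫ appLE f W' D h = appLE f W D fun x hx => hW (h x hx) := by
  simp only [appLE]
  erw [f.c.naturality_assoc]
  show f.c.app _ ≫ X.presheaf.map _ ≫ X.presheaf.map _ = _
  rw [← Functor.map_comp]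
  rfl

lemma appLE_res (f : X ⟶ Y) (W : Opens Y) (D D' : Opens X) (hD : D' ≤ D) (h : ∀ x ∈ D, f.base x ∈ W) :
    appLE f W D h ≫ X.presheaf.map (homOfLE hD).op = appLE f W D' fun x hx => h x (hD hx) := by
  simp only [appLE, Category.assoc, ← Functor.map_comp]
  rfl

lemma appLE_bijective_of_eq (i : X ⟶ Y) [LocallyRingedSpace.IsOpenImmersion i] (D : Opens X) {E : Opens Y}
    (e : E = image i D) (h : ∀ x ∈ D, i.base x ∈ E) : Function.Bijective (appLE i E D h) := by
  subst e
  exact appLE_image_bijective i D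

lemma ext_appLE {f f' : X ⟶ Y} (hb : ∀ x, f.base x = f'.base x)
    (h : ∀ (W : Opens Y) (D : Opens X) (h₁ : ∀ x ∈ D, f.base x ∈ W) (h₂ : ∀ x ∈ D, f'.base x ∈ W),
      appLE f W D h₁ = appLE f' W D h₂) : f = f' := by
  obtain ⟨⟨b, c⟩, p⟩ := f
  obtain ⟨⟨b', c'⟩, p'⟩ := f'
  obtain rfl : b = b' := ConcreteCategory.hom_ext _ _ hb
  have : c = c' := by
    refine NatTrans.ext (funext fun W => ?_)
    obtain ⟨W⟩ := W
    have h2 := h W ((Opens.map b).obj W) (fun x hx => hx) (fun x hx => hx)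
    simp only [appLE] at h2
    change c.app _ ≫ X.presheaf.map (𝟙 _) = c'.app _ ≫ X.presheaf.map (𝟙 _) at h2
    erw [CategoryTheory.Functor.map_id, Category.comp_id, Category.comp_id] at h2
    exact h2
  subst this
  rfl

variable {σ : Type*} {U : σ → LocallyRingedSpace.{u}} (j : ∀ a, U a ⟶ Z)
  [∀ a, LocallyRingedSpace.IsOpenImmersion (j a)] (hj : ∀ z, ∃ a u, (j a).base u = z)

/-- The preimage of an open in a member of the cover. -/
abbrev pre (a : σ) (V : Opens Z) : Opens (U a) := (Opens.map (j a).base).obj V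

include hj in
lemma section_ext_cover {V : Opens Z} {t t' : Z.presheaf.obj (op V)}
    (h : ∀ a, appLE (j a) V (pre j a V) (fun _ hx => hx) t = appLE (j a) V (pre j a V) (fun _ hx => hx) t') :
    t = t' := by
  refine TopCat.Sheaf.eq_of_locally_eq' Z.sheaf (fun a => image (j a) (pre j a V)) V
    (fun a => homOfLE (fun _ ⟨x, hx, e⟩ => e ▸ hx)) (fun z hz => ?_) _ _ fun a => ?_
  · obtain ⟨a, u, rfl⟩ := hj z
    exact Opens.mem_iSup.2 ⟨a, u, hz, rfl⟩
  · apply (appLE_image_bijective (j a) (pre j a V)).1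
    show (Z.presheaf.map _ ≫ appLE (j a) (image (j a) (pre j a V)) _ fun z hz => ⟨z, hz, rfl⟩) t = (Z.presheaf.map _ ≫ appLE (j a) (image (j a) (pre j a V)) _ fun z hz => ⟨z, hz, rfl⟩) t'
    rw [res_appLE]
    exact h a

include hj in
theorem hom_ext_cover {m m' : Z ⟶ T} (h : ∀ a, j a ≫ m = j a ≫ m') : m = m' := by
  refine ext_appLE (fun z => ?_) fun W D h₁ h₂ => ?_
  · obtain ⟨a, u, rfl⟩ := hj z
    exact ConcreteCategory.congr_hom (congrArg (fun q : U a ⟶ T => q.base) (h a)) u
  · refine CommRingCat.hom_ext (RingHom.ext fun s => section_ext_cover j hj fun a => ?_)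
    show (appLE m W D h₁ ≫ appLE (j a) D (pre j a D) fun _ hx => hx) s = (appLE m' W D h₂ ≫ appLE (j a) D (pre j a D) fun _ hx => hx) s
    rw [appLE_appLE, appLE_appLE]
    congr 2
    simp only [h a]

variable (f : ∀ a, U a ⟶ T)
  (hf : ∀ a b (Q : LocallyRingedSpace.{u}) (p : Q ⟶ U a) (q : Q ⟶ U b), LocallyRingedSpace.IsOpenImmersion q →
    p ≫ j a = q ≫ j b → p ≫ f a = q ≫ f b)
  (hpt : ∀ a b (x : U a) (y : U b), (j a).base x = (j b).base y → (f a).base x = (f b).base y)

/-- `t` is the pull-back of `s` on every member of the cover. -/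
def Good (W : Opens T) (V : Opens Z) (s : T.presheaf.obj (op W)) (t : Z.presheaf.obj (op V)) : Prop :=
  ∀ a, ∃ h : ∀ u ∈ pre j a V, (f a).base u ∈ W,
    appLE (j a) V (pre j a V) (fun _ hx => hx) t = appLE (f a) W (pre j a V) h s

include hj hf in
lemma exists_good (W : Opens T) (V : Opens Z) (hV : ∀ a, ∀ u ∈ pre j a V, (f a).base u ∈ W)
    (s : T.presheaf.obj (op W)) : ∃! t, Good j f W V s t := by
  choose t ht using fun a => (appLE_image_bijective (j a) (pre j a V)).2
    (appLE (f a) W (pre j a V) (hV a) s)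
  have key : ∀ a b (D : Opens (U b)) (hD : ∀ u ∈ D, (j b).base u ∈ image (j a) (pre j a V)) (hD' : ∀ u ∈ D, (f b).base u ∈ W),
      appLE (j b) (image (j a) (pre j a V)) D hD (t a) = appLE (f b) W D hD' s := by
    intro a b D hD hD'
    let q := (U b).ofRestrict (Opens.isOpenEmbedding D)
    have hr : Set.range (q ≫ j b).base ⊆ Set.range (j a).base := by
      rintro _ ⟨x, rfl⟩
      obtain ⟨y, -, hy⟩ := hD (q.base x) x.2
      exact ⟨y, hy⟩
    let p := LocallyRingedSpace.IsOpenImmersion.lift (j a) (q ≫ j b) hr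
    have hp : p ≫ j a = q ≫ j b := LocallyRingedSpace.IsOpenImmersion.lift_fac _ _ _
    have hpf := hf a b _ p q inferInstance hp
    have hpre : ∀ x ∈ (⊤ : Opens _), p.base x ∈ pre j a V := fun x _ => by
      obtain ⟨y, hy, e⟩ := hD (q.base x) x.2
      show (j a).base (p.base x) ∈ V
      rw [show (j a).base (p.base x) = (j b).base (q.base x) from
        ConcreteCategory.congr_hom (congrArg (fun m : _ ⟶ Z => m.base) hp) x]
      exact e ▸ hy
    have hbij : Function.Bijective (appLE q D ⊤ fun x _ => x.2) := by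
      refine appLE_bijective_of_eq q ⊤ (Opens.ext ?_) _
      rw [coe_image]
      exact (Set.image_univ.trans Subtype.range_coe).symm
    apply hbij.1
    show (appLE (j b) _ D hD ≫ appLE q D ⊤ fun x _ => x.2) (t a) = (appLE (f b) W D hD' ≫ appLE q D ⊤ fun x _ => x.2) s
    rw [appLE_appLE, appLE_appLE]
    simp only [← hp, ← hpf]
    rw [← appLE_appLE p (j a) (image (j a) (pre j a V)) (pre j a V) ⊤ (fun y hy => ⟨y, hy, rfl⟩) hpre,
      ← appLE_appLE p (f a) W (pre j a V) ⊤ (hV a) hpre, CommRingCat.comp_apply, CommRingCat.comp_apply]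
    exact congrArg _ (ht a)
  have hcompat : TopCat.Presheaf.IsCompatible Z.presheaf (fun a => image (j a) (pre j a V)) t := by
    intro a b
    refine section_ext_cover j hj fun c => ?_
    show (Z.presheaf.map _ ≫ appLE (j c) _ _ fun _ hz => hz) (t a) = (Z.presheaf.map _ ≫ appLE (j c) _ _ fun _ hz => hz) (t b)
    rw [Subsingleton.elim (Opens.infLELeft _ _) (homOfLE inf_le_left), Subsingleton.elim (Opens.infLERight _ _) (homOfLE inf_le_right),
      res_appLE, res_appLE, key, key]
    exact fun u hu => hV c u (by obtain ⟨y, hy, e⟩ := hu.1; show (j c).base u ∈ V; exact e ▸ hy)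
  obtain ⟨t₀, ht₀, -⟩ := TopCat.Sheaf.existsUnique_gluing' Z.sheaf (fun a => image (j a) (pre j a V)) V
    (fun a => homOfLE (fun _ ⟨x, hx, e⟩ => e ▸ hx))
    (fun z hz => by obtain ⟨a, u, rfl⟩ := hj z; exact Opens.mem_iSup.2 ⟨a, u, hz, rfl⟩) t hcompat
  refine ⟨t₀, fun a => ⟨hV a, ?_⟩, fun t' ht' => ?_⟩
  · rw [← ht a, ← ht₀ a]
    show _ = (Z.presheaf.map _ ≫ appLE (j a) _ (pre j a V) fun z hz => (⟨z, hz, rfl⟩ : (j a).base z ∈ image (j a) (pre j a V))) t₀
    rw [res_appLE]
  · refine section_ext_cover j hj fun a => ?_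
    obtain ⟨_, e⟩ := ht' a
    rw [e, ← ht a, ← ht₀ a]
    show (Z.presheaf.map _ ≫ appLE (j a) _ (pre j a V) fun z hz => (⟨z, hz, rfl⟩ : (j a).base z ∈ image (j a) (pre j a V))) t₀ = _
    rw [res_appLE]

include hj hf hpt in
theorem exists_glue : ∃ m : Z ⟶ T, ∀ a, j a ≫ m = f a := by
  choose idx pt hpt' using hj
  have hval : ∀ a (u : U a), (f (idx ((j a).base u))).base (pt ((j a).base u)) = (f a).base u := fun a u =>
    hpt _ _ _ _ (hpt' _)
  let b : Z → T := fun z => (f (idx z)).base (pt z)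
  have hcont : Continuous b := ⟨fun W hW => by
    have e : b ⁻¹' W = ⋃ a, (j a).base '' ((f a).base ⁻¹' W) := by
      ext z
      constructor
      · intro hz; exact Set.mem_iUnion.2 ⟨idx z, pt z, hz, hpt' z⟩
      · intro hz
        obtain ⟨a, u, hu, rfl⟩ := Set.mem_iUnion.1 hz
        show (f (idx _)).base (pt _) ∈ W
        rw [hval]; exact hu
    rw [e]
    exact isOpen_iUnion fun a => (PresheafedSpace.IsOpenImmersion.base_open (f := (j a).toShHom.hom)).isOpenMap _
      (hW.preimage (f a).base.hom.continuous)⟩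
  let bm : Z.toTopCat ⟶ T.toTopCat := TopCat.ofHom ⟨b, hcont⟩
  have hV : ∀ (W : Opens T) a, ∀ u ∈ pre j a ((Opens.map bm).obj W), (f a).base u ∈ W := fun W a u hu => by
    rw [← hval]; exact hu
  have hj' : ∀ z, ∃ a u, (j a).base u = z := fun z => ⟨idx z, pt z, hpt' z⟩
  choose g hg hgu using fun (W : Opens T) s => exists_good j hj' f hf W _ (hV W) s
  let ch : ∀ W : Opens T, T.presheaf.obj (op W) →+* Z.presheaf.obj (op ((Opens.map bm).obj W)) := fun W =>
    { toFun := g W
      map_one' := (hgu W 1 1 fun a => ⟨hV W a, by rw [map_one, map_one]⟩).symm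
      map_zero' := (hgu W 0 0 fun a => ⟨hV W a, by rw [map_zero, map_zero]⟩).symm
      map_mul' := fun x y => (hgu W _ _ fun a => ⟨hV W a, by
        rw [map_mul, map_mul, (hg W x a).2, (hg W y a).2]⟩).symm
      map_add' := fun x y => (hgu W _ _ fun a => ⟨hV W a, by
        rw [map_add, map_add, (hg W x a).2, (hg W y a).2]⟩).symm }
  let c : T.presheaf ⟶ bm _* Z.presheaf :=
    { app := fun W => CommRingCat.ofHom (ch W.unop)
      naturality := fun W W' i => by
        refine CommRingCat.hom_ext (RingHom.ext fun s => ?_)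
        show g W'.unop (T.presheaf.map i s) = Z.presheaf.map ((Opens.map bm).map i.unop).op (g W.unop s)
        refine (hgu _ _ _ fun a => ⟨hV _ a, ?_⟩).symm
        show (Z.presheaf.map ((Opens.map bm).map i.unop).op ≫ appLE (j a) ((Opens.map bm).obj W'.unop) (pre j a ((Opens.map bm).obj W'.unop)) fun _ hx => hx) (g W.unop s) =
          (T.presheaf.map i ≫ appLE (f a) W'.unop (pre j a ((Opens.map bm).obj W'.unop)) (hV _ a)) s
        rw [show ((Opens.map bm).map i.unop).op = (homOfLE ((Opens.map bm).map i.unop).le).op from rfl,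
          show i = (homOfLE i.unop.le).op from rfl, res_appLE, res_appLE]
        rw [← appLE_res (j a) _ (pre j a ((Opens.map bm).obj W.unop)) _
          (fun u hu => ((Opens.map bm).map i.unop).le hu) (fun _ hx => hx), ← appLE_res (f a) _
          (pre j a ((Opens.map bm).obj W.unop)) _ (fun u hu => ((Opens.map bm).map i.unop).le hu) (hV _ a),
          CommRingCat.comp_apply, CommRingCat.comp_apply]
        exact congrArg _ (hg W.unop s a).2 }
  let P : Z.toPresheafedSpace ⟶ T.toPresheafedSpace := ⟨bm, c⟩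
  have hloc : ∀ z, IsLocalHom (P.stalkMap z).hom := fun z => ⟨fun s hs => by
    obtain ⟨W, hW, x, rfl⟩ := TopCat.Presheaf.exists_germ_eq T.presheaf s
    erw [PresheafedSpace.stalkMap_germ_apply P W z hW x] at hs
    change IsUnit (Z.presheaf.germ ((Opens.map bm).obj W) z hW (g W x)) at hs
    obtain ⟨a, u, rfl⟩ := hj' z
    have hu : u ∈ pre j a ((Opens.map bm).obj W) := hW
    have h1 := (isUnit_germ_appLE (j a) _ _ (fun _ hx => hx) u hu (g W x)).2 hs
    rw [(hg W x a).2] at h1
    have h2 := (isUnit_germ_appLE (f a) _ _ (hV W a) u hu x).1 h1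
    have hbu : P.base ((j a).base u) = (f a).base u := hval a u
    have key2 : ∀ y (hy : y ∈ W), y = (f a).base u → IsUnit (T.presheaf.germ W y hy x) := by
      rintro y hy rfl; exact h2
    exact key2 _ _ hbu⟩
  let m : Z ⟶ T := ⟨P, hloc⟩
  refine ⟨m, fun a => ext_appLE (fun u => hval a u) fun W D h₁ h₂ => ?_⟩
  rw [← appLE_appLE (j a) m W ((Opens.map bm).obj W) D (fun _ hx => hx) h₁]
  refine CommRingCat.hom_ext (RingHom.ext fun s => ?_)
  show appLE (j a) ((Opens.map bm).obj W) D h₁ (Z.presheaf.map (𝟙 _) (g W s)) = _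
  rw [CategoryTheory.Functor.map_id]
  show appLE (j a) ((Opens.map bm).obj W) D h₁ (g W s) = _
  rw [← appLE_res (j a) _ (pre j a ((Opens.map bm).obj W)) D (fun u hu => h₁ u hu) (fun _ hx => hx),
    ← appLE_res (f a) W (pre j a ((Opens.map bm).obj W)) D (fun u hu => h₁ u hu) (hV W a), CommRingCat.comp_apply]
  exact congrArg _ (hg W s a).2

end Groth.Agent.H26Hens
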