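import Groth.Agent.H26Hens.Space
import Mathlib.AlgebraicGeometry.GammaSpecAdjunction
import Mathlib.Topology.Sheaves.SheafCondition.Sites

/-! Maps from Henselian spaces into affine Henselian spectra. -/

set_option autoImplicit false

universe u

open CategoryTheory Opposite TopologicalSpace Topology AlgebraicGeometry

namespace Groth.Agent.H26Hens

variable {A : Type u} [CommRing A] {T V : LocallyRingedSpace.{u}}

/-- The map from `A` to the sections on an open. -/
noncomputable def sec (k : T ⟶ HensSch.specLRS A) (W : Opens T) : A →+* (T.presheaf.obj (op W) : Type u) :=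
  (appLE k ⊤ W (fun _ _ => trivial)).hom.comp (Scheme.ΓSpecIso (CommRingCat.of A)).inv.hom

lemma isUnit_germ_sec (k : T ⟶ HensSch.specLRS A) (W : Opens T) (t : T) (ht : t ∈ W) (a : A) :
    IsUnit (T.presheaf.germ W t ht (sec k W a)) ↔ a ∉ (k.base t).asIdeal := by
  refine Iff.trans (isUnit_germ_appLE k ⊤ W (fun _ _ => trivial) t ht ((Scheme.ΓSpecIso (CommRingCat.of A)).inv a)) ?_
  exact ((Spec (CommRingCat.of A)).mem_basicOpen ((Scheme.ΓSpecIso (CommRingCat.of A)).inv a) (k.base t) trivial).symm.trans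
    (by rw [basicOpen_eq_of_affine]; exact PrimeSpectrum.mem_basicOpen _ _)

lemma res_sec (k : T ⟶ HensSch.specLRS A) {W W' : Opens T} (h : W' ≤ W) :
    (T.presheaf.map (homOfLE h).op).hom.comp (sec k W) = sec k W' := by
  ext a
  show (T.presheaf.map _ ≫ T.presheaf.map _) (k.c.app _ ((Scheme.ΓSpecIso (CommRingCat.of A)).inv a)) = _
  rw [← Functor.map_comp]
  rfl

lemma secMap_eq_sec (π : V ⟶ HensSch.specLRS A) (U : Opens (PrimeSpectrum A)) :
    HensSch.secMap π U = sec π ((Opens.map π.base).obj U) := rfl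

lemma appLE_comp (m : T ⟶ V) (π : V ⟶ HensSch.specLRS A) {W : Opens T} {D : Opens V} (h : ∀ t ∈ W, m.base t ∈ D) :
    appLE (m ≫ π) ⊤ W (fun _ _ => trivial) = appLE π ⊤ D (fun _ _ => trivial) ≫ appLE m D W h := by
  simp only [appLE, Category.assoc]
  erw [m.c.naturality_assoc]
  show _ = π.c.app _ ≫ m.c.app _ ≫ T.presheaf.map _ ≫ T.presheaf.map _
  rw [← Functor.map_comp]
  rfl

lemma sec_comp (m : T ⟶ V) (π : V ⟶ HensSch.specLRS A) {W : Opens T} {D : Opens V} (h : ∀ t ∈ W, m.base t ∈ D) :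
    sec (m ≫ π) W = (appLE m D W h).hom.comp (sec π D) := by
  rw [sec, appLE_comp m π h]
  rfl

lemma eq_of_sec {k k' : T ⟶ HensSch.specLRS A} (h : sec k ⊤ = sec k' ⊤) : k = k' := by
  have h1 : (Scheme.ΓSpecIso (CommRingCat.of A)).inv ≫ appLE k ⊤ ⊤ (fun _ _ => trivial) =
      (Scheme.ΓSpecIso (CommRingCat.of A)).inv ≫ appLE k' ⊤ ⊤ (fun _ _ => trivial) := CommRingCat.hom_ext h
  rw [cancel_epi] at h1
  haveI : IsIso (T.presheaf.map (homOfLE (le_refl (⊤ : Opens T))).op) := by
    rw [show homOfLE (le_refl (⊤ : Opens T)) = 𝟙 _ from rfl, op_id, CategoryTheory.Functor.map_id]; infer_instance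
  have h2 : ∀ x, k.c.app (op ⊤) x = k'.c.app (op ⊤) x := fun x =>
    (ConcreteCategory.bijective_of_isIso (T.presheaf.map (homOfLE (le_refl (⊤ : Opens T))).op)).1 (ConcreteCategory.congr_hom h1 x)
  apply (ΓSpec.locallyRingedSpaceAdjunction.homEquiv T (op (CommRingCat.of A))).symm.injective
  rw [Adjunction.homEquiv_counit, Adjunction.homEquiv_counit]
  congr 1
  exact Quiver.Hom.unop_inj (CommRingCat.hom_ext (RingHom.ext h2))

section Sph

variable {I : Ideal A} {π : V ⟶ HensSch.specLRS A} (hV : HensSch.IsSph A I V π)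
  (hT : AllHens T) {k : T ⟶ HensSch.specLRS A} (hk : ∀ t, I ≤ (k.base t).asIdeal)

include hT hk in
lemma map_sec_le_vanish (W : Opens T) : I.map (sec k W) ≤ vanish T W :=
  Ideal.map_le_iff_le_comap.2 fun _ hi => mem_vanish.2 fun t ht h =>
    (isUnit_germ_sec k W t ht _).1 h (hk t hi)

include hV hT hk in
lemma existsUnique_secLift (f : A) (W : Opens T) (hW : ∀ t ∈ W, f ∉ (k.base t).asIdeal) :
    ∃! h : V.presheaf.obj (op (HensSch.dOpen π f)) →+* T.presheaf.obj (op W),
      h.comp (sec π (HensSch.dOpen π f)) = sec k W :=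
  (hV.2.2 f).2.2 _ _ _ (hT W) (map_sec_le_vanish hT hk W)
    (RingedSpace.isUnit_of_isUnit_germ T.toRingedSpace W _ fun t ht => (isUnit_germ_sec k W t ht f).2 (hW t ht))

include hV in
lemma isBasis_dOpen : Opens.IsBasis (Set.range fun f : A => HensSch.dOpen π f) :=
  Opens.isBasis_iff_nbhd.2 fun {W v} h => by
    obtain ⟨f, hv, hle⟩ := exists_dOpen_le hV v W h
    exact ⟨_, ⟨f, rfl⟩, hv, hle⟩

include hV hT hk in
theorem hom_ext_sph {m₁ m₂ : T ⟶ V} (h₁ : m₁ ≫ π = k) (h₂ : m₂ ≫ π = k) : m₁ = m₂ := by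
  have hb : m₁.base = m₂.base := ConcreteCategory.hom_ext _ _ fun t => hV.1.injective
    (by
      show (m₁ ≫ π).base t = (m₂ ≫ π).base t
      rw [h₁, h₂])
  obtain ⟨⟨b, c₁⟩, p₁⟩ := m₁
  obtain ⟨⟨b', c₂⟩, p₂⟩ := m₂
  obtain rfl : b = b' := hb
  have : c₁ = c₂ := by
    refine TopCat.Sheaf.hom_ext V.presheaf ((TopCat.Sheaf.pushforward _ b).obj T.sheaf) (isBasis_dOpen hV) fun f => ?_
    refine CommRingCat.hom_ext ?_
    have hW : ∀ t ∈ (Opens.map b).obj (HensSch.dOpen π f), f ∉ (k.base t).asIdeal := fun t ht => by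
      rw [← h₁]; exact ht
    have key : ∀ (c : V.presheaf ⟶ b _* T.presheaf) (p) (h : (⟨⟨b, c⟩, p⟩ : T ⟶ V) ≫ π = k),
        (c.app (op (HensSch.dOpen π f))).hom.comp (sec π (HensSch.dOpen π f)) =
          sec k ((Opens.map b).obj (HensSch.dOpen π f)) := fun c p h => by
      rw [← h, sec_comp (⟨⟨b, c⟩, p⟩ : T ⟶ V) π (D := HensSch.dOpen π f) (fun t ht => ht)]
      congr 1
      ext x
      show _ = (T.presheaf.map (𝟙 _)) _
      rw [CategoryTheory.Functor.map_id]
      rfl
    exact (existsUnique_secLift hV hT hk f _ hW).unique (key c₁ p₁ h₁) (key c₂ p₂ h₂)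
  subst this
  rfl

include hV hT hk in
theorem exists_lift_sph : ∃ m : T ⟶ V, m ≫ π = k := by
  have hmem : ∀ t, ∃ v, π.base v = k.base t := fun t => hV.2.1.ge (hk t)
  choose b hb using hmem
  have hcont : Continuous b := hV.1.isInducing.continuous_iff.2 (by
    rw [show π.base ∘ b = k.base from funext hb]; exact k.base.hom.continuous)
  let bm : T.toTopCat ⟶ V.toTopCat := TopCat.ofHom ⟨b, hcont⟩
  have hW : ∀ (f : A) (t : T), t ∈ (Opens.map bm).obj (HensSch.dOpen π f) → f ∉ (k.base t).asIdeal :=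
    fun f t ht => by rw [← hb]; exact ht
  choose h hh hu using fun f => existsUnique_secLift hV hT hk f _ (hW f)
  have hnat : ∀ (f f' : A) (hle : HensSch.dOpen π f' ≤ HensSch.dOpen π f),
      (h f').comp (V.presheaf.map (homOfLE hle).op).hom =
        (T.presheaf.map ((Opens.map bm).map (homOfLE hle)).op).hom.comp (h f) := fun f f' hle => by
    refine (existsUnique_secLift hV hT hk f _ (fun t ht => hW f t (hle ht))).unique ?_ ?_
    · rw [RingHom.comp_assoc, res_sec, hh]
    · rw [RingHom.comp_assoc, hh]; exact res_sec k _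
  let α : (inducedFunctor fun f : A => HensSch.dOpen π f).op ⋙ V.presheaf ⟶
      (inducedFunctor fun f : A => HensSch.dOpen π f).op ⋙ ((TopCat.Sheaf.pushforward _ bm).obj T.sheaf).1 :=
    { app := fun f => CommRingCat.ofHom (h f.unop)
      naturality := fun f f' e => CommRingCat.hom_ext (hnat f.unop f'.unop (leOfHom e.unop.hom)) }
  let c : V.presheaf ⟶ bm _* T.presheaf :=
    TopCat.Sheaf.restrictHomEquivHom V.presheaf _ (isBasis_dOpen hV) α
  have hc : ∀ f, c.app (op (HensSch.dOpen π f)) = CommRingCat.ofHom (h f) := fun f =>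
    TopCat.Sheaf.extend_hom_app V.presheaf ((TopCat.Sheaf.pushforward _ bm).obj T.sheaf) (isBasis_dOpen hV) α f
  let P : T.toPresheafedSpace ⟶ V.toPresheafedSpace := ⟨bm, c⟩
  have hloc : ∀ t, IsLocalHom (P.stalkMap t).hom := fun t => ⟨fun s hs => by
    obtain ⟨U, hxU, x, rfl⟩ := TopCat.Presheaf.exists_germ_eq V.presheaf s
    obtain ⟨f, hvf, hle⟩ := exists_dOpen_le hV (b t) U hxU
    have e : V.presheaf.germ U (b t) hxU x =
        V.presheaf.germ (HensSch.dOpen π f) (b t) hvf (V.presheaf.map (homOfLE hle).op x) :=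
      (germ_map hle (b t) hvf x).symm
    set y := V.presheaf.map (homOfLE hle).op x
    change IsUnit ((P.stalkMap t) (V.presheaf.germ U (b t) hxU x)) at hs
    show IsUnit (V.presheaf.germ U (b t) hxU x)
    rw [e] at hs ⊢
    erw [PresheafedSpace.stalkMap_germ_apply P (HensSch.dOpen π f) t hvf y] at hs
    change IsUnit (T.presheaf.germ _ t hvf ((c.app (op (HensSch.dOpen π f))) y)) at hs
    rw [hc] at hs
    obtain ⟨n, a, hna⟩ := exists_num_vanish hV f y
    have hnv := map_secMap_le_vanish π (PrimeSpectrum.basicOpen f) (I := I) (fun v _ => range_le hV v) hna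
    rw [isUnit_germ_iff_num π f hnv (b t) hvf, hb]
    intro ha
    let γ := (T.presheaf.germ ((Opens.map bm).obj (HensSch.dOpen π f)) t hvf).hom
    have h1 : γ (sec k _ f) ^ n * γ (h f y) - γ (sec k _ a) ∈ IsLocalRing.maximalIdeal _ := by
      rw [← map_pow, ← map_mul, ← map_sub, ← hh f, RingHom.comp_apply, RingHom.comp_apply, ← map_pow, ← map_mul, ← map_sub]
      refine mem_vanish.1 (map_sec_le_vanish hT hk _ ?_) t hvf
      rw [← hh f, ← Ideal.map_map]
      exact Ideal.mem_map_of_mem _ hna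
    have h2 : γ (sec k _ a) ∈ IsLocalRing.maximalIdeal _ := fun hu => (isUnit_germ_sec k _ t hvf a).1 hu ha
    have h3 : IsUnit (γ (sec k _ f) ^ n * γ (h f y)) :=
      (((isUnit_germ_sec k _ t hvf f).2 (hW f t hvf)).pow n).mul hs
    exact (by simpa using Ideal.add_mem _ h1 h2 : γ (sec k _ f) ^ n * γ (h f y) ∈ IsLocalRing.maximalIdeal _) h3⟩
  let m : T ⟶ V := ⟨P, hloc⟩
  refine ⟨m, eq_of_sec ?_⟩
  have htop : ∀ t ∈ (⊤ : Opens T), m.base t ∈ HensSch.dOpen π (1 : A) := fun t _ =>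
    (Ideal.ne_top_iff_one _).1 ((π.base (b t)).isPrime.ne_top)
  rw [sec_comp m π htop]
  show (RingHom.comp _ (c.app (op (HensSch.dOpen π (1:A)))).hom).comp _ = _
  rw [hc]
  show (RingHom.comp _ (h 1)).comp _ = _
  rw [RingHom.comp_assoc, hh]
  exact res_sec k _

end Sph

end Groth.Agent.H26Hens
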