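import Groth.Agent.H26Hens.Algebra

/-! Sections of Henselian schemes form Henselian pairs with the ideal of vanishing sections. -/

set_option autoImplicit false

universe u

open CategoryTheory Opposite TopologicalSpace Topology AlgebraicGeometry Polynomial

namespace Groth.Agent.H26Hens

variable {X Z T : LocallyRingedSpace.{u}}

/-- Sections on `W` that vanish at every point. -/
noncomputable def vanish (Z : LocallyRingedSpace.{u}) (W : Opens Z) : Ideal (Z.presheaf.obj (op W) : Type u) :=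
  ⨅ (z : Z) (hz : z ∈ W), (IsLocalRing.maximalIdeal _).comap (Z.presheaf.germ W z hz).hom

lemma mem_vanish {W : Opens Z} {b : Z.presheaf.obj (op W)} :
    b ∈ vanish Z W ↔ ∀ z (hz : z ∈ W), ¬ IsUnit (Z.presheaf.germ W z hz b) := by
  simp only [vanish, Ideal.mem_iInf, Ideal.mem_comap, IsLocalRing.mem_maximalIdeal, mem_nonunits_iff]

lemma vanish_le_jacobson (W : Opens Z) : vanish Z W ≤ Ideal.jacobson ⊥ := fun b hb => by
  rw [Ideal.mem_jacobson_bot]
  intro y
  refine RingedSpace.isUnit_of_isUnit_germ Z.toRingedSpace W _ fun z hz => ?_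
  show IsUnit ((Z.presheaf.germ W z hz).hom (b * y + 1))
  rw [map_add, map_mul, map_one]
  by_contra h
  have h1 : (Z.presheaf.germ W z hz).hom b * (Z.presheaf.germ W z hz).hom y + 1 ∈ IsLocalRing.maximalIdeal _ := h
  have h2 : (Z.presheaf.germ W z hz).hom b * (Z.presheaf.germ W z hz).hom y ∈ IsLocalRing.maximalIdeal _ :=
    Ideal.mul_mem_right _ _ (mem_vanish.1 hb z hz)
  exact (IsLocalRing.maximalIdeal _).ne_top_iff_one.1 (IsLocalRing.maximalIdeal.isMaximal _).ne_top
    ((Ideal.add_mem_iff_right _ h2).1 h1)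

lemma isUnit_germ_app (g : Z ⟶ T) (W : Opens T) (z : Z) (hz : g.base z ∈ W) (b : T.presheaf.obj (op W)) :
    IsUnit (Z.presheaf.germ ((Opens.map g.base).obj W) z hz (g.c.app (op W) b)) ↔
      IsUnit (T.presheaf.germ W (g.base z) hz b) := by
  rw [← LocallyRingedSpace.stalkMap_germ_apply g W z hz b]
  exact isUnit_map_iff (g.stalkMap z).hom _

lemma germ_map {U V : Opens Z} (h : V ≤ U) (z : Z) (hz : z ∈ V) (b : Z.presheaf.obj (op U)) :
    Z.presheaf.germ V z hz (Z.presheaf.map (homOfLE h).op b) = Z.presheaf.germ U z (h hz) b :=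
  TopCat.Presheaf.germ_res_apply _ _ _ _ b

/-- Restriction of sections along a morphism. -/
noncomputable def appLE (g : Z ⟶ T) (W : Opens T) (D : Opens Z) (h : ∀ z ∈ D, g.base z ∈ W) :
    T.presheaf.obj (op W) ⟶ Z.presheaf.obj (op D) :=
  g.c.app (op W) ≫ Z.presheaf.map (homOfLE (show D ≤ (Opens.map g.base).obj W from h)).op

lemma isUnit_germ_appLE (g : Z ⟶ T) (W : Opens T) (D : Opens Z) (h : ∀ z ∈ D, g.base z ∈ W) (z : Z) (hz : z ∈ D)
    (b : T.presheaf.obj (op W)) :
    IsUnit (Z.presheaf.germ D z hz (appLE g W D h b)) ↔ IsUnit (T.presheaf.germ W (g.base z) (h z hz) b) := by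
  rw [← isUnit_germ_app g W z (h z hz) b]
  exact iff_of_eq (congrArg IsUnit (germ_map (U := (Opens.map g.base).obj W) h z hz _))

section Sph

variable {A : Type u} [CommRing A] (k : T ⟶ HensSch.specLRS A)

lemma isUnit_germ_secMap (U : Opens (PrimeSpectrum A)) (t : T) (ht : t ∈ (Opens.map k.base).obj U) (a : A) :
    IsUnit (T.presheaf.germ _ t ht (HensSch.secMap k U a)) ↔ a ∉ (k.base t).asIdeal := by
  have h1 := isUnit_germ_appLE k ⊤ ((Opens.map k.base).obj U) (fun z _ => trivial) t ht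
    ((Scheme.ΓSpecIso (CommRingCat.of A)).inv a)
  refine Iff.trans h1 ?_
  exact ((Spec (CommRingCat.of A)).mem_basicOpen ((Scheme.ΓSpecIso (CommRingCat.of A)).inv a) (k.base t) trivial).symm.trans
    (by rw [basicOpen_eq_of_affine]; exact PrimeSpectrum.mem_basicOpen _ _)

variable {I : Ideal A}

lemma map_secMap_le_vanish (U : Opens (PrimeSpectrum A))
    (hk : ∀ t ∈ (Opens.map k.base).obj U, I ≤ (k.base t).asIdeal) :
    I.map (HensSch.secMap k U) ≤ vanish T ((Opens.map k.base).obj U) :=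
  Ideal.map_le_iff_le_comap.2 fun i hi => mem_vanish.2 fun t ht h =>
    (isUnit_germ_secMap k U t ht i).1 h (hk t ht hi)

lemma isUnit_germ_iff_num (f : A) {b : T.presheaf.obj (op (HensSch.dOpen k f))} {n : ℕ} {a : A}
    (hb : HensSch.secMap k (PrimeSpectrum.basicOpen f) f ^ n * b - HensSch.secMap k (PrimeSpectrum.basicOpen f) a ∈
      vanish T (HensSch.dOpen k f)) (t : T) (ht : t ∈ HensSch.dOpen k f) :
    IsUnit (T.presheaf.germ _ t ht b) ↔ a ∉ (k.base t).asIdeal := by
  let γ := (T.presheaf.germ (HensSch.dOpen k f) t ht).hom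
  have hf : IsUnit (γ (HensSch.secMap k (PrimeSpectrum.basicOpen f) f)) := (isUnit_germ_secMap k _ t ht f).2 ht
  rw [← isUnit_germ_secMap k (PrimeSpectrum.basicOpen f) t ht a]
  show IsUnit (γ b) ↔ IsUnit (γ _)
  have hm : γ (HensSch.secMap k (PrimeSpectrum.basicOpen f) f) ^ n * γ b -
      γ (HensSch.secMap k (PrimeSpectrum.basicOpen f) a) ∈ IsLocalRing.maximalIdeal _ := by
    rw [← map_pow, ← map_mul, ← map_sub]
    exact mem_vanish.1 hb t ht
  rw [← and_iff_right (b := IsUnit (γ b)) (hf.pow n), ← IsUnit.mul_iff]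
  rw [← not_iff_not]
  show _ ∈ IsLocalRing.maximalIdeal _ ↔ _ ∈ IsLocalRing.maximalIdeal _
  constructor
  · intro h; simpa using Ideal.sub_mem _ h hm
  · intro h; simpa using Ideal.add_mem _ hm h

end Sph

section SphPair

variable {A : Type u} [CommRing A] {I : Ideal A} {V : LocallyRingedSpace.{u}} {π : V ⟶ HensSch.specLRS A}
  (hV : HensSch.IsSph A I V π)

include hV

lemma range_le (v : V) : I ≤ (π.base v).asIdeal := hV.2.1.le ⟨v, rfl⟩

lemma exists_num_vanish (f : A) (b : V.presheaf.obj (op (HensSch.dOpen π f))) :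
    ∃ (n : ℕ) (a : A), HensSch.secMap π (PrimeSpectrum.basicOpen f) f ^ n * b -
      HensSch.secMap π (PrimeSpectrum.basicOpen f) a ∈ I.map (HensSch.secMap π (PrimeSpectrum.basicOpen f)) :=
  exists_num (hV.2.2 f) b

lemma vanish_le_radical (f : A) :
    vanish V (HensSch.dOpen π f) ≤ (I.map (HensSch.secMap π (PrimeSpectrum.basicOpen f))).radical := by
  intro b hb
  obtain ⟨n, a, hna⟩ := exists_num_vanish hV f b
  set φ := HensSch.secMap π (PrimeSpectrum.basicOpen f)
  have hle := map_secMap_le_vanish π (PrimeSpectrum.basicOpen f) (I := I) (fun t _ => range_le hV t)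
  have h1 : f * a ∈ I.radical := by
    rw [Ideal.radical_eq_sInf, Ideal.mem_sInf]
    rintro p ⟨hIp, hp⟩
    by_contra hn
    have hfp : f ∉ p := fun h => hn (p.mul_mem_right a h)
    have hap : a ∉ p := fun h => hn (p.mul_mem_left f h)
    obtain ⟨v, hv⟩ := hV.2.1.ge (show (⟨p, hp⟩ : PrimeSpectrum A) ∈ PrimeSpectrum.zeroLocus (I : Set A) from hIp)
    have hvD : v ∈ HensSch.dOpen π f := by show f ∉ (π.base v).asIdeal; rw [hv]; exact hfp
    exact mem_vanish.1 hb v hvD ((isUnit_germ_iff_num π f (hle hna) v hvD).2 (by rw [hv]; exact hap))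
  have h2 : φ f * φ a ∈ (I.map φ).radical := by
    rw [← map_mul]; exact Ideal.map_radical_le φ (Ideal.mem_map_of_mem φ h1)
  have hu : IsUnit (φ f) := (hV.2.2 f).1
  have h3 : φ f * (φ f ^ n * b) ∈ (I.map φ).radical := by
    have := Ideal.add_mem _ h2 (Ideal.mul_mem_left _ (φ f) (Ideal.le_radical hna))
    rwa [← mul_add, add_sub_cancel] at this
  rw [← mul_assoc] at h3
  exact (Ideal.unit_mul_mem_iff_mem _ (hu.mul (hu.pow n))).1 h3

lemma henselian_dOpen (f : A) : HenselianRing (V.presheaf.obj (op (HensSch.dOpen π f))) (vanish V (HensSch.dOpen π f)) :=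
  henselian_of_le_radical (hV.2.2 f).2.1 (vanish_le_radical hV f)

lemma exists_dOpen_le (v : V) (W : Opens V) (h : v ∈ W) :
    ∃ f : A, v ∈ HensSch.dOpen π f ∧ HensSch.dOpen π f ≤ W := by
  obtain ⟨W', hW', e⟩ := hV.1.isInducing.isOpen_iff.1 W.isOpen
  have hvW : π.base v ∈ W' := by
    have : v ∈ π.base ⁻¹' W' := by rw [e]; exact h
    exact this
  obtain ⟨_, ⟨f, rfl⟩, hvf, hfW⟩ :=
    PrimeSpectrum.isTopologicalBasis_basic_opens.exists_subset_of_mem_open hvW hW'
  refine ⟨f, hvf, fun x hx => ?_⟩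
  have : x ∈ π.base ⁻¹' W' := hfW hx
  rw [e] at this
  exact this

end SphPair

/-- All rings of sections are Henselian along the vanishing sections. -/
def AllHens (Z : LocallyRingedSpace.{u}) : Prop := ∀ W : Opens Z, HenselianRing (Z.presheaf.obj (op W)) (vanish Z W)

lemma henselian_of_bijective {R S : Type u} [CommRing R] [CommRing S] (e : R →+* S) (he : Function.Bijective e)
    {J : Ideal R} {K : Ideal S} (h : J = K.comap e) (hS : HenselianRing S K) : HenselianRing R J := by
  refine ⟨?_, fun f hf a₀ h₁ h₂ => ?_⟩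
  · rw [h, ← Ideal.comap_bot_of_injective e he.1, ← Ideal.comap_jacobson_of_surjective he.2]
    exact Ideal.comap_mono hS.jac
  · have h₁' : (f.map e).eval (e a₀) ∈ K := by rw [eval_map, eval₂_hom]; exact h.le h₁
    have h₂' : IsUnit (Ideal.Quotient.mk K ((f.map e).derivative.eval (e a₀))) := by
      rw [derivative_map, eval_map, eval₂_hom]
      obtain ⟨y, hy⟩ := h₂.exists_right_inv
      obtain ⟨y, rfl⟩ := Ideal.Quotient.mk_surjective y
      rw [← map_mul, ← map_one (Ideal.Quotient.mk J), Ideal.Quotient.eq] at hy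
      refine IsUnit.of_mul_eq_one (Ideal.Quotient.mk K (e y)) ?_
      rw [← map_mul, ← map_one (Ideal.Quotient.mk K), Ideal.Quotient.eq, ← map_one e, ← map_mul, ← map_sub]
      exact h.le hy
    obtain ⟨a, ha, haK⟩ := hS.is_henselian (f.map e) (hf.map e) (e a₀) h₁' h₂'
    obtain ⟨a, rfl⟩ := he.2 a
    refine ⟨a, he.1 ?_, h.ge (by rw [Ideal.mem_comap, map_sub]; exact haK)⟩
    rw [IsRoot.def, eval_map, eval₂_hom] at ha
    rw [ha, map_zero]

section OpenImm

variable (i : Z ⟶ T) [LocallyRingedSpace.IsOpenImmersion i]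

/-- The open image. -/
noncomputable def image (D : Opens Z) : Opens T :=
  (PresheafedSpace.IsOpenImmersion.base_open (f := i.toShHom.hom)).functor.obj D

lemma coe_image (D : Opens Z) : (image i D : Set T) = i.base '' (D : Set Z) := rfl

lemma appLE_image_bijective (D : Opens Z) :
    Function.Bijective (appLE i (image i D) D fun z hz => ⟨z, hz, rfl⟩) := by
  haveI : IsIso (i.c.app (op (image i D))) := PresheafedSpace.IsOpenImmersion.c_iso (f := i.toShHom.hom) D
  have e : (Opens.map i.base).obj (image i D) = D := Opens.ext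
    (Set.preimage_image_eq _ (PresheafedSpace.IsOpenImmersion.base_open (f := i.toShHom.hom)).injective)
  haveI : IsIso (homOfLE (show D ≤ (Opens.map i.base).obj (image i D) from e.ge)) :=
    ⟨homOfLE e.le, Subsingleton.elim _ _, Subsingleton.elim _ _⟩
  exact ConcreteCategory.bijective_of_isIso (i.c.app (op (image i D)) ≫ Z.presheaf.map (homOfLE _).op)

lemma vanish_image (D : Opens Z) :
    vanish T (image i D) = (vanish Z D).comap (appLE i (image i D) D fun z hz => ⟨z, hz, rfl⟩).hom := by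
  ext b
  rw [Ideal.mem_comap, mem_vanish, mem_vanish]
  constructor
  · intro h z hz hu
    exact h _ _ ((isUnit_germ_appLE i _ D _ z hz b).1 hu)
  · rintro h _ ⟨z, hz, rfl⟩ hu
    exact h z hz ((isUnit_germ_appLE i (image i D) D (fun z hz => ⟨z, hz, rfl⟩) z hz b).2 hu)

lemma henselian_image {D : Opens Z} (h : HenselianRing (Z.presheaf.obj (op D)) (vanish Z D)) :
    HenselianRing (T.presheaf.obj (op (image i D))) (vanish T (image i D)) :=
  henselian_of_bijective _ (appLE_image_bijective i D) (vanish_image i D) h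

include i in
lemma allHens_of_openImmersion (h : AllHens T) : AllHens Z := fun D => by
  let e := RingEquiv.ofBijective _ (appLE_image_bijective i D)
  refine henselian_of_bijective e.symm.toRingHom e.symm.bijective ?_ (h (image i D))
  rw [vanish_image]
  ext b
  show b ∈ vanish Z D ↔ e (e.symm b) ∈ vanish Z D
  rw [e.apply_symm_apply]

end OpenImm

lemma allHens_of_cover
    (h : ∀ (W : Opens Z) (z : Z), z ∈ W → ∃ V ≤ W, z ∈ V ∧ HenselianRing (Z.presheaf.obj (op V)) (vanish Z V)) :
    AllHens Z := fun W => by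
  refine ⟨vanish_le_jacobson W, fun f hf a₀ h₁ h₂ => ?_⟩
  choose V hVW hzV hV using fun z : W => h W z z.2
  let res : ∀ z, Z.presheaf.obj (op W) →+* Z.presheaf.obj (op (V z)) := fun z =>
    (Z.presheaf.map (homOfLE (hVW z)).op).hom
  have hres : ∀ z x, x ∈ vanish Z W → res z x ∈ vanish Z (V z) := fun z x hx => mem_vanish.2 fun y hy hu =>
    mem_vanish.1 hx y (hVW z hy) (germ_map (hVW z) y hy x ▸ hu)
  have hder : IsUnit (f.derivative.eval a₀) := isUnit_of_mod (vanish_le_jacobson W) h₂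
  have hloc : ∀ z, ∃ r, (f.map (res z)).IsRoot r ∧ r - res z a₀ ∈ vanish Z (V z) := fun z => by
    refine (hV z).is_henselian _ (hf.map _) _ ?_ ?_
    · rw [eval_map, eval₂_hom]; exact hres z _ h₁
    · rw [derivative_map, eval_map, eval₂_hom]; exact (hder.map _).map _
  choose r hr hr0 using hloc
  have hcompat : TopCat.Presheaf.IsCompatible Z.presheaf V r := by
    intro z z'
    let ρ := (Z.presheaf.map (Opens.infLELeft (V z) (V z')).op).hom
    let ρ' := (Z.presheaf.map (Opens.infLERight (V z) (V z')).op).hom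
    have hc : ∀ x, ρ (res z x) = ρ' (res z' x) := fun x => by
      show (Z.presheaf.map _ ≫ Z.presheaf.map _) x = (Z.presheaf.map _ ≫ Z.presheaf.map _) x
      rw [← Functor.map_comp, ← Functor.map_comp]
      rfl
    have e : ρ.comp (res z) = ρ'.comp (res z') := RingHom.ext hc
    show ρ (r z) = ρ' (r z')
    have ha : (f.map (ρ.comp (res z))).IsRoot (ρ (r z)) := by
      rw [← Polynomial.map_map]; exact (hr z).map
    have hb : (f.map (ρ.comp (res z))).IsRoot (ρ' (r z')) := by
      rw [e, ← Polynomial.map_map]; exact (hr z').map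
    have hd : ∀ y, (hy : y ∈ V z ⊓ V z') →
        ¬ IsUnit (Z.presheaf.germ _ y hy (ρ (r z) - ρ (res z a₀))) := fun y hy hu => by
      rw [← map_sub] at hu
      exact mem_vanish.1 (hr0 z) y hy.1 (germ_map inf_le_left y hy _ ▸ hu)
    have hd' : ∀ y, (hy : y ∈ V z ⊓ V z') →
        ¬ IsUnit (Z.presheaf.germ _ y hy (ρ' (r z') - ρ' (res z' a₀))) := fun y hy hu => by
      rw [← map_sub] at hu
      exact mem_vanish.1 (hr0 z') y hy.2 (germ_map inf_le_right y hy _ ▸ hu)
    have hdiff : ρ' (r z') - ρ (r z) ∈ vanish Z (V z ⊓ V z') := by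
      have := Ideal.sub_mem _ (mem_vanish.2 hd') (mem_vanish.2 hd)
      rwa [← hc, sub_sub_sub_cancel_right] at this
    refine root_unique (vanish_le_jacobson _) ha hb hdiff ?_
    refine isUnit_of_mod (vanish_le_jacobson _) ?_
    rw [derivative_map, Ideal.Quotient.eq.2 (show (f.derivative.map (ρ.comp (res z))).eval (ρ (r z)) -
      (f.derivative.map (ρ.comp (res z))).eval ((ρ.comp (res z)) a₀) ∈ vanish Z (V z ⊓ V z') from
        Ideal.mem_of_dvd _ (sub_dvd_eval_sub _ _ _) (mem_vanish.2 hd)), eval_map (x := (ρ.comp (res z)) a₀), eval₂_hom]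
    exact (hder.map _).map _
  obtain ⟨a, ha, -⟩ := TopCat.Sheaf.existsUnique_gluing' Z.sheaf V W (fun z => homOfLE (hVW z))
    (fun z hz => Opens.mem_iSup.2 ⟨⟨z, hz⟩, hzV ⟨z, hz⟩⟩) r hcompat
  have ha' : ∀ z, res z a = r z := ha
  refine ⟨a, ?_, mem_vanish.2 fun y hy hu => ?_⟩
  · refine TopCat.Sheaf.eq_of_locally_eq' Z.sheaf V W (fun z => homOfLE (hVW z))
      (fun z hz => Opens.mem_iSup.2 ⟨⟨z, hz⟩, hzV ⟨z, hz⟩⟩) _ _ fun z => ?_
    show res z (f.eval a) = res z 0
    rw [map_zero, ← eval₂_hom, ← eval_map, ha']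
    exact hr z
  · have h3 := mem_vanish.1 (hr0 ⟨y, hy⟩) y (hzV _)
    rw [← ha', ← map_sub] at h3
    exact h3 (by rw [germ_map]; exact hu)

theorem allHens_of_isHensScheme (hZ : HensSch.IsHensScheme Z) : AllHens Z :=
  allHens_of_cover fun W z hz => by
    obtain ⟨U, i, hi, ⟨u, rfl⟩, A, _, I, π, -, -, hU⟩ := hZ z
    obtain ⟨f, hu, hle⟩ := exists_dOpen_le hU u ((Opens.map i.base).obj W) hz
    exact ⟨image i (HensSch.dOpen π f), fun y ⟨x, hx, e⟩ => e ▸ hle hx, ⟨u, hu, rfl⟩,
      henselian_image i (henselian_dOpen hU f)⟩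

end Groth.Agent.H26Hens
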